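import Groth.Agent.DCat.LeftRes
import Mathlib.Algebra.Homology.Embedding.CochainComplex

/-!
# Resolutions of complexes with homology in a class, by objects of a smaller class
-/

set_option autoImplicit false
set_option backward.isDefEq.respectTransparency false
set_option backward.defeqAttrib.useBackward true

universe v u

open CategoryTheory CategoryTheory.Limits

namespace Groth.Agent.Et18.RelRes

variable {A : Type u} [Category.{v} A] [Abelian A]

/-- The hypotheses on the two classes: `Cl` is stable under kernels, extensions and isomorphisms;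
objects of `P` are in `Cl`; an epimorphism onto an object of `Cl` can be covered by an object of `P`. -/
structure Good (P Cl : A → Prop) : Prop where
  cl_of_p : ∀ {X : A}, P X → Cl X
  iso : ∀ {X Y : A}, Cl X → (X ≅ Y) → Cl Y
  kernel : ∀ {X Y : A} (f : X ⟶ Y), Cl X → Cl Y → Cl (kernel f)
  ext : ∀ {S : ShortComplex A}, S.ShortExact → Cl S.X₁ → Cl S.X₃ → Cl S.X₂
  cover : ∀ {X Y : A} (v : X ⟶ Y) [Epi v], Cl Y → ∃ (G : A) (w : G ⟶ X), P G ∧ Epi (w ≫ v)

variable {P Cl : A → Prop} (hg : Good P Cl) (L : ChainComplex A ℕ) (hL : ∀ k, Cl (L.homology k))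

/-- A partial resolution at level `k`. -/
structure Stage (P Cl : A → Prop) (L : ChainComplex A ℕ) (k : ℕ) where
  X : A
  prop : P X
  α : X ⟶ L.X k
  Zc : A
  clZc : Cl Zc
  i : Zc ⟶ X
  mono : Mono i
  cyc : ∀ j, i ≫ α ≫ L.d k j = 0
  lift : ∀ ⦃T : A⦄ (x : T ⟶ L.X k), (∀ j, x ≫ L.d k j = 0) →
    ∃ (T' : A) (π : T' ⟶ T) (_ : Epi π) (z : T' ⟶ Zc) (y : T' ⟶ L.X (k + 1)),
      π ≫ x = z ≫ i ≫ α + y ≫ L.d (k + 1) k

attribute [instance] Stage.mono

instance epi_homologyπ (K : ChainComplex A ℕ) (k : ℕ) : Epi (K.homologyπ k) := inferInstance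

lemma zero_next {T : A} (x : T ⟶ L.X 0) : x ≫ L.d 0 ((ComplexShape.down ℕ).next 0) = 0 := by
  rw [L.shape 0 _ (by simp), comp_zero]

/-- The projection to the zeroth homology. -/
noncomputable def π₀ : L.X 0 ⟶ L.homology 0 :=
  L.liftCycles (𝟙 _) _ rfl (zero_next L (𝟙 _)) ≫ L.homologyπ 0

lemma comp_π₀ {T : A} (x : T ⟶ L.X 0) :
    x ≫ π₀ L = L.liftCycles x _ rfl (zero_next L x) ≫ L.homologyπ 0 := by
  rw [π₀, ← Category.assoc]
  congr 1
  rw [← cancel_mono (L.iCycles 0)]
  simp

instance epi_π₀ : Epi (π₀ L) := by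
  haveI : IsIso (L.iCycles 0) := L.isIso_iCycles 0 _ rfl (L.shape 0 _ (by simp))
  have : L.liftCycles (𝟙 _) _ rfl (zero_next L (𝟙 _)) = inv (L.iCycles 0) := by
    rw [← cancel_mono (L.iCycles 0)]
    simp
  rw [π₀, this]
  infer_instance

/-- The first stage. -/
noncomputable def stage₀ : Stage P Cl L 0 where
  X := (hg.cover (π₀ L) (hL 0)).choose
  prop := (hg.cover (π₀ L) (hL 0)).choose_spec.choose_spec.1
  α := (hg.cover (π₀ L) (hL 0)).choose_spec.choose
  Zc := (hg.cover (π₀ L) (hL 0)).choose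
  clZc := hg.cl_of_p (hg.cover (π₀ L) (hL 0)).choose_spec.choose_spec.1
  i := 𝟙 _
  mono := inferInstance
  cyc j := by rw [L.shape 0 j (by simp), comp_zero, comp_zero]
  lift T x _ := by
    haveI := (hg.cover (π₀ L) (hL 0)).choose_spec.choose_spec.2
    obtain ⟨T', π, hπ, z, hz⟩ := surjective_up_to_refinements_of_epi
      ((hg.cover (π₀ L) (hL 0)).choose_spec.choose ≫ π₀ L) (x ≫ π₀ L)
    rw [← Category.assoc, ← Category.assoc, comp_π₀ L, comp_π₀ L] at hz
    obtain ⟨T'', π', hπ', y, hy⟩ :=
      (L.liftCycles_comp_homologyπ_eq_iff_up_to_refinements 1 0 _ (by simp) rfl _ _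
        (zero_next L _) (zero_next L _)).mp hz
    refine ⟨T'', π' ≫ π, inferInstance, π' ≫ z, y, ?_⟩
    rw [Category.assoc, hy, Category.id_comp, Category.assoc]

variable {L} {k : ℕ} (S : Stage P Cl L k)

/-- The fibre product of the cycles of the stage and the next term. -/
noncomputable abbrev F : A := pullback (S.i ≫ S.α) (L.d (k + 1) k)

/-- The boundaries inside it. -/
noncomputable def bd : L.X (k + 2) ⟶ F S := pullback.lift 0 (L.d (k + 2) (k + 1)) (by simp)

/-- Its quotient by boundaries. -/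
noncomputable abbrev Q : A := cokernel (bd S)

/-- The projection of the quotient to the cycles of the stage. -/
noncomputable def q : Q S ⟶ S.Zc := cokernel.desc _ (pullback.fst _ _) (pullback.lift_fst _ _ _)

lemma π_q : cokernel.π (bd S) ≫ q S = pullback.fst _ _ := cokernel.π_desc _ _ _

lemma next_succ : (ComplexShape.down ℕ).next (k + 1) = k := ChainComplex.next_nat_succ k

/-- The cycles of the next term inside it. -/
noncomputable def fromCycles : L.cycles (k + 1) ⟶ F S := pullback.lift 0 (L.iCycles (k + 1)) (by simp)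

/-- The homology inside the quotient. -/
noncomputable def η : L.homology (k + 1) ⟶ Q S :=
  (L.homologyIsCokernel (k + 2) (k + 1) (ChainComplex.prev ℕ (k + 1))).desc
    (CokernelCofork.ofπ (fromCycles S ≫ cokernel.π (bd S)) (by
      rw [← Category.assoc]
      have : L.toCycles (k + 2) (k + 1) ≫ fromCycles S = bd S := by
        refine pullback.hom_ext ?_ ?_
        · simp [fromCycles, bd]
        · simp [fromCycles, bd]
      rw [this, cokernel.condition]))

lemma π_η : L.homologyπ (k + 1) ≫ η S = fromCycles S ≫ cokernel.π (bd S) :=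
  (L.homologyIsCokernel (k + 2) (k + 1) (ChainComplex.prev ℕ (k + 1))).fac _ WalkingParallelPair.one

lemma η_q : η S ≫ q S = 0 := by
  rw [← cancel_epi (L.homologyπ (k + 1)), ← Category.assoc, π_η, Category.assoc, π_q, comp_zero]
  exact pullback.lift_fst _ _ _

instance mono_η : Mono (η S) := by
  refine Preadditive.mono_of_cancel_zero _ fun {T} γ hγ => ?_
  obtain ⟨T', π, hπ, z, hz, hγz⟩ := L.eq_liftCycles_homologyπ_up_to_refinements γ k next_succ
  rw [← cancel_epi π, comp_zero, hγz]
  have h0 : (L.liftCycles z k next_succ hz ≫ fromCycles S) ≫ cokernel.π (bd S) = 0 := by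
    rw [Category.assoc, ← π_η, ← Category.assoc, ← hγz, Category.assoc, hγ, comp_zero]
  have hex : (ShortComplex.mk (bd S) (cokernel.π (bd S)) (cokernel.condition _)).Exact :=
    ShortComplex.exact_cokernel _
  obtain ⟨T'', π', hπ', w, hw⟩ :=
    (ShortComplex.exact_iff_exact_up_to_refinements _).mp hex _ h0
  refine (L.liftCycles_comp_homologyπ_eq_zero_iff_up_to_refinements (k + 2) (k + 1) k
    (ChainComplex.prev ℕ (k + 1)) next_succ z hz).mpr ⟨T'', π', hπ', w, ?_⟩
  simpa [fromCycles, bd] using congrArg (fun t => t ≫ pullback.snd _ _) hw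

/-- The class in homology of a cycle of the stage. -/
noncomputable def ρ : S.Zc ⟶ L.homology k :=
  L.liftCycles (S.i ≫ S.α) _ rfl ((Category.assoc _ _ _).trans (S.cyc _)) ≫ L.homologyπ k

lemma q_ρ : q S ≫ ρ S = 0 := by
  rw [← cancel_epi (cokernel.π (bd S)), ← Category.assoc, π_q, comp_zero, ρ, ← Category.assoc]
  have hc : (pullback.fst (S.i ≫ S.α) (L.d (k + 1) k) ≫ S.i ≫ S.α) ≫ L.d k ((ComplexShape.down ℕ).next k) = 0 := by
    simp only [Category.assoc, S.cyc, comp_zero]
  have : pullback.fst (S.i ≫ S.α) (L.d (k + 1) k) ≫ L.liftCycles (S.i ≫ S.α) _ rfl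
      ((Category.assoc _ _ _).trans (S.cyc _)) = L.liftCycles _ _ rfl hc := by
    rw [← cancel_mono (L.iCycles k)]
    simp
  rw [this]
  refine (L.liftCycles_comp_homologyπ_eq_zero_iff_up_to_refinements (k + 1) k _
    (ChainComplex.prev ℕ k) rfl _ hc).mpr ⟨_, 𝟙 _, inferInstance, pullback.snd _ _, ?_⟩
  rw [Category.id_comp, pullback.condition]

/-- The quotient onto the kernel of `ρ`. -/
noncomputable def q' : Q S ⟶ kernel (ρ S) := kernel.lift _ (q S) (q_ρ S)

lemma q'_ι : q' S ≫ kernel.ι (ρ S) = q S := kernel.lift_ι _ _ _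

instance epi_q' : Epi (q' S) := by
  rw [epi_iff_surjective_up_to_refinements]
  intro T n
  have hz : (n ≫ kernel.ι (ρ S) ≫ S.i ≫ S.α) ≫ L.d k ((ComplexShape.down ℕ).next k) = 0 := by
    simp only [Category.assoc, S.cyc, comp_zero]
  have h0 : L.liftCycles _ _ rfl hz ≫ L.homologyπ k = 0 := by
    have : L.liftCycles _ _ rfl hz = (n ≫ kernel.ι (ρ S)) ≫ L.liftCycles (S.i ≫ S.α) _ rfl
        ((Category.assoc _ _ _).trans (S.cyc _)) := by
      rw [← cancel_mono (L.iCycles k)]
      simp
    rw [this, Category.assoc]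
    show (n ≫ kernel.ι (ρ S)) ≫ ρ S = 0
    rw [Category.assoc, kernel.condition, comp_zero]
  obtain ⟨T', π, hπ, y, hy⟩ := (L.liftCycles_comp_homologyπ_eq_zero_iff_up_to_refinements (k + 1) k _
    (ChainComplex.prev ℕ k) rfl _ hz).mp h0
  refine ⟨T', π, hπ, pullback.lift (π ≫ n ≫ kernel.ι (ρ S)) y (by simpa [Category.assoc] using hy) ≫ cokernel.π _, ?_⟩
  rw [← cancel_mono (kernel.ι (ρ S)), Category.assoc, Category.assoc, Category.assoc, q'_ι, π_q,
    pullback.lift_fst]

lemma η_q' : η S ≫ q' S = 0 := by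
  rw [← cancel_mono (kernel.ι (ρ S)), Category.assoc, q'_ι, η_q, zero_comp]

include hg hL in
lemma cl_Q : Cl (Q S) := by
  refine hg.ext (S := ShortComplex.mk (η S) (q' S)
    (η_q' S)) ?_ (hL (k + 1))
    (hg.kernel (ρ S) S.clZc (hL k))
  refine { exact := (ShortComplex.exact_iff_exact_up_to_refinements _).mpr fun T γ hγ => ?_ }
  obtain ⟨T', π, hπ, f, hf⟩ := surjective_up_to_refinements_of_epi (cokernel.π (bd S)) γ
  have hfst : f ≫ pullback.fst _ _ = 0 := by
    rw [← π_q, ← Category.assoc, ← hf, Category.assoc, ← q'_ι, ← Category.assoc γ, hγ, zero_comp,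
      comp_zero]
  have hcyc : (f ≫ pullback.snd _ _) ≫ L.d (k + 1) k = 0 := by
    rw [Category.assoc, ← pullback.condition, reassoc_of% hfst, zero_comp]
  refine ⟨T', π, hπ, L.liftCycles _ k next_succ hcyc ≫ L.homologyπ (k + 1), ?_⟩
  show π ≫ γ = _ ≫ η S
  rw [Category.assoc, π_η, hf, ← Category.assoc]
  congr 1
  refine pullback.hom_ext ?_ ?_
  · simp [fromCycles, hfst]
  · simp [fromCycles]

/-- The covering object of the next stage. -/
noncomputable abbrev cov : A := (hg.cover (cokernel.π (bd S)) (cl_Q hg hL S)).choose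
/-- Its map to the fibre product. -/
noncomputable abbrev covπ : cov hg hL S ⟶ F S :=
  (hg.cover (cokernel.π (bd S)) (cl_Q hg hL S)).choose_spec.choose

instance : Epi (covπ hg hL S ≫ cokernel.π (bd S)) :=
  (hg.cover (cokernel.π (bd S)) (cl_Q hg hL S)).choose_spec.choose_spec.2

lemma prop_cov : P (cov hg hL S) :=
  (hg.cover (cokernel.π (bd S)) (cl_Q hg hL S)).choose_spec.choose_spec.1

/-- Elements of the fibre product come from the covering object up to boundaries. -/
lemma exists_mem_F {T : A} (f : T ⟶ F S) :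
    ∃ (T' : A) (π : T' ⟶ T) (_ : Epi π) (p : T' ⟶ cov hg hL S) (y : T' ⟶ L.X (k + 2)),
      π ≫ f = p ≫ covπ hg hL S + y ≫ bd S := by
  obtain ⟨T', π, hπ, p, hp⟩ :=
    surjective_up_to_refinements_of_epi (covπ hg hL S ≫ cokernel.π (bd S)) (f ≫ cokernel.π (bd S))
  have h0 : (π ≫ f - p ≫ covπ hg hL S) ≫ cokernel.π (bd S) = 0 := by
    rw [Preadditive.sub_comp, Category.assoc, Category.assoc, hp, sub_self]
  have hex : (ShortComplex.mk (bd S) (cokernel.π (bd S)) (cokernel.condition _)).Exact :=
    ShortComplex.exact_cokernel _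
  obtain ⟨T'', π', hπ', y, hy⟩ := (ShortComplex.exact_iff_exact_up_to_refinements _).mp hex _ h0
  refine ⟨T'', π' ≫ π, inferInstance, π' ≫ p, y, ?_⟩
  have : π' ≫ (π ≫ f - p ≫ covπ hg hL S) = y ≫ bd S := hy
  rw [← this]
  simp only [Preadditive.comp_sub, Category.assoc]
  abel

/-- The next stage. -/
noncomputable def next : Stage P Cl L (k + 1) where
  X := cov hg hL S
  prop := prop_cov hg hL S
  α := covπ hg hL S ≫ pullback.snd _ _
  Zc := kernel (covπ hg hL S ≫ pullback.fst _ _)
  clZc := hg.kernel _ (hg.cl_of_p (prop_cov hg hL S)) S.clZc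
  i := kernel.ι _
  mono := inferInstance
  cyc j := by
    by_cases hj : (ComplexShape.down ℕ).Rel (k + 1) j
    · obtain rfl : j = k := by simpa using hj
      rw [Category.assoc, ← pullback.condition, ← Category.assoc (covπ hg hL S), ← Category.assoc,
        kernel.condition, zero_comp]
    · rw [L.shape _ _ hj, comp_zero, comp_zero]
  lift T x hx := by
    let f : T ⟶ F S := pullback.lift 0 x (by rw [zero_comp, hx k])
    obtain ⟨T', π, hπ, p, y, hp⟩ := exists_mem_F hg hL S f
    have h1 := congrArg (fun t => t ≫ pullback.fst _ _) hp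
    simp [f, bd] at h1
    have h2 := congrArg (fun t => t ≫ pullback.snd _ _) hp
    simp [f, bd] at h2
    refine ⟨T', π, hπ, kernel.lift _ p h1.symm, y, ?_⟩
    rw [kernel.lift_ι_assoc, h2]

variable (L) in
/-- All stages. -/
noncomputable def stages : ∀ k, Stage P Cl L k
  | 0 => stage₀ hg L hL
  | k + 1 => next hg hL (stages k)

variable (L) in
/-- The differential. -/
noncomputable def dX (k : ℕ) : (stages hg L hL (k + 1)).X ⟶ (stages hg L hL k).X :=
  covπ hg hL (stages hg L hL k) ≫ pullback.fst _ _ ≫ (stages hg L hL k).i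

lemma i_dX (k : ℕ) : (stages hg L hL (k + 1)).i ≫ dX hg L hL k = 0 := by
  have h : (stages hg L hL (k + 1)).i ≫ covπ hg hL (stages hg L hL k) ≫
      pullback.fst ((stages hg L hL k).i ≫ (stages hg L hL k).α) (L.d (k + 1) k) = 0 :=
    kernel.condition _
  rw [dX, reassoc_of% h, zero_comp]

lemma dX_comp (k : ℕ) : dX hg L hL (k + 1) ≫ dX hg L hL k = 0 := by
  show (covπ hg hL (stages hg L hL (k + 1)) ≫ pullback.fst _ _ ≫ (stages hg L hL (k + 1)).i) ≫
    dX hg L hL k = 0
  rw [Category.assoc, Category.assoc, i_dX, comp_zero, comp_zero]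

variable (L) in
/-- The resolution. -/
noncomputable def res : ChainComplex A ℕ :=
  ChainComplex.of (fun k => (stages hg L hL k).X) (dX hg L hL) (dX_comp hg hL (L := L))

lemma res_d (k : ℕ) : (res hg L hL).d (k + 1) k = dX hg L hL k := by
  simp [res, ChainComplex.of, ChainComplex.of.d]

variable (L) in
/-- The augmentation. -/
noncomputable def resα : res hg L hL ⟶ L where
  f k := (stages hg L hL k).α
  comm' := by
    rintro i j (rfl : j + 1 = i)
    show (stages hg L hL (j + 1)).α ≫ L.d (j + 1) j = (res hg L hL).d (j + 1) j ≫ (stages hg L hL j).α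
    rw [res_d]
    show (covπ hg hL (stages hg L hL j) ≫ pullback.snd _ _) ≫ _ =
      (covπ hg hL (stages hg L hL j) ≫ pullback.fst _ _ ≫ _) ≫ _
    simp only [Category.assoc]
    rw [← pullback.condition]

lemma quasiIso_resα : QuasiIso (resα hg L hL) := by
  refine ⟨fun k => ?_⟩
  rw [quasiIsoAt_iff_isIso_homologyMap]
  have hm : Mono (HomologicalComplex.homologyMap (resα hg L hL) k) := by
    rw [HomologicalComplex.mono_homologyMap_iff_up_to_refinements _ (k + 1) k
      ((ComplexShape.down ℕ).next k) (by simp) rfl]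
    intro T x hx y hy
    obtain ⟨z, hz⟩ : ∃ z, z ≫ (stages hg L hL k).i = x := by
      cases k with
      | zero => exact ⟨x, Category.comp_id x⟩
      | succ m =>
        rw [show (ComplexShape.down ℕ).next (m + 1) = m by simp, res_d] at hx
        refine ⟨kernel.lift _ x ?_, kernel.lift_ι _ _ _⟩
        rw [← cancel_mono (stages hg L hL m).i, zero_comp, Category.assoc, Category.assoc]
        exact hx
    let f : T ⟶ F (stages hg L hL k) := pullback.lift z y (by
      rw [← Category.assoc, hz]; exact hy)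
    obtain ⟨T', π, hπ, p, w, hp⟩ := exists_mem_F hg hL (stages hg L hL k) f
    refine ⟨T', π, hπ, p, ?_⟩
    have h1 := congrArg (fun t => t ≫ pullback.fst _ _ ≫ (stages hg L hL k).i) hp
    simp only [f, bd, Preadditive.add_comp, Category.assoc, pullback.lift_fst_assoc, zero_comp,
      comp_zero, add_zero, hz] at h1
    rw [res_d]
    exact h1
  have he : Epi (HomologicalComplex.homologyMap (resα hg L hL) k) := by
    rw [HomologicalComplex.epi_homologyMap_iff_up_to_refinements _ (k + 1) k
      ((ComplexShape.down ℕ).next k) (by simp) rfl]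
    intro T y hy
    obtain ⟨T', π, hπ, z, w, hz⟩ := (stages hg L hL k).lift y (fun j => by
      by_cases hjk : (ComplexShape.down ℕ).Rel k j
      · rw [← (ComplexShape.down ℕ).next_eq' hjk]; exact hy
      · rw [L.shape k j hjk, comp_zero])
    refine ⟨T', π, hπ, z ≫ (stages hg L hL k).i, ?_, w, ?_⟩
    · cases k with
      | zero => exact (congrArg (_ ≫ ·) ((res hg L hL).shape _ _ (by simp))).trans comp_zero
      | succ m =>
        rw [show (ComplexShape.down ℕ).next (m + 1) = m by simp, res_d, Category.assoc, i_dX, comp_zero]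
    · rw [Category.assoc]
      exact hz
  exact isIso_of_mono_of_epi _

include hg in
/-- A cochain complex with homology in `Cl`, zero in large degrees, has a bounded above resolution with
terms in `P`. -/
theorem exists_resolution (hPiso : ∀ {X Y : A}, P X → (X ≅ Y) → P Y) (hP0 : ∀ {Z : A}, IsZero Z → P Z)
    (K : CochainComplex A ℤ) (hK : ∀ i, Cl (K.homology i)) (a : ℤ) [K.IsLE a] :
    ∃ (R : CochainComplex A ℤ) (φ : R ⟶ K), R.IsStrictlyLE a ∧ (∀ n, P (R.X n)) ∧ QuasiIso φ := by
  let K' := K.truncLE a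
  haveI : QuasiIso (K.ιTruncLE a) := inferInstance
  let e := ComplexShape.embeddingUpIntLE a
  let L := K'.restriction e
  let i₀ := DCat.LeftRes.extendRestrictionIso e K'
  have hL : ∀ k, Cl (L.homology k) := fun k =>
    hg.iso (hK (e.f k)) ((asIso (HomologicalComplex.homologyMap (K.ιTruncLE a) (e.f k))).symm ≪≫
      (HomologicalComplex.homologyMapIso i₀ (e.f k)).symm ≪≫ L.extendHomologyIso e rfl)
  let R := res hg L hL
  let β : R.extend e ⟶ K := HomologicalComplex.extendMap (resα hg L hL) e ≫ i₀.hom ≫ K.ιTruncLE a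
  haveI : QuasiIso (HomologicalComplex.extendMap (resα hg L hL) e) :=
    (HomologicalComplex.quasiIso_extendMap_iff _ _).2 (quasiIso_resα hg hL)
  refine ⟨R.extend e, β, inferInstance, fun n => ?_, inferInstance⟩
  by_cases hn : n ≤ a
  · have he : e.f (a - n).toNat = n := by simp [e]; omega
    exact hPiso (stages hg L hL (a - n).toNat).prop (R.extendXIso e he).symm
  · exact hP0 (R.isZero_extend_X e n ((ComplexShape.notMem_range_embeddingUpIntLE_iff a n).2 (by omega)))

end Groth.Agent.Et18.RelRes
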